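import Groth.Agent.Pi1EtDesc.Glue
import Groth.Agent.Pi1Desc.General
import Groth.Prelude.Def_DescFam

/-!
# Effectiveness in etale schemes: dictionary, base change, localisation on the base
-/

universe u

set_option autoImplicit false
set_option backward.isDefEq.respectTransparency false
set_option linter.style.haveILetI false

open CategoryTheory Limits AlgebraicGeometry TopologicalSpace

namespace Groth.Pi1EtDesc

open Groth.Pi1Desc

variable {X S : Scheme.{u}} {p : X ⟶ S}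

/-- A quotient gives an isomorphism with the canonical datum. -/
theorem nonempty_iso_of_quot (D : Desc.SchDD p) {U : Scheme.{u}} (π : U ⟶ S) (q : D.obj.left ⟶ U)
    (hpb : IsPullback q D.obj.hom π p)
    (hcompat : ∀ (T : Scheme.{u}) (v : T ⟶ D.obj.left) (x : T ⟶ X) (e : v ≫ D.obj.hom ≫ p = x ≫ p),
      (ofDD D).act v x e ≫ q = v ≫ q) :
    Nonempty ((Desc.toDD p).obj (Over.mk π) ≅ D) := by
  refine ⟨?_⟩
  let C := Desc.canonicalDD p (Over.mk π)
  let e : pullback p π ≅ D.obj.left := hpb.flip.isoPullback.symm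
  have e1 : e.hom ≫ D.obj.hom = pullback.fst p π := hpb.flip.isoPullback_inv_fst
  have e2 : e.hom ≫ q = pullback.snd p π := hpb.flip.isoPullback_inv_snd
  let F : C.obj ≅ D.obj := Over.isoMk e e1
  let fwd : C ⟶ D := ⟨F.hom, fun T x₀ x₁ hx v w hw => by
    have hw' : w.1 = v.1 ≫ e.hom := hw
    apply hpb.hom_ext
    · rw [ofDD_act D hx w, hcompat, hw', Category.assoc, e2]
      change v.1 ≫ pullback.snd p π = ((C.φ x₀ x₁ hx v).1 ≫ e.hom) ≫ q
      rw [Category.assoc, e2]
      exact (pullback.lift_snd _ _ _).symm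
    · rw [(D.φ x₀ x₁ hx w).2]
      change x₁ = ((C.φ x₀ x₁ hx v).1 ≫ e.hom) ≫ D.obj.hom
      rw [Category.assoc, e1]
      exact (pullback.lift_fst _ _ _).symm⟩
  let bwd : D ⟶ C := ⟨F.inv, fun T x₀ x₁ hx v w hw => by
    have hw' : w.1 = v.1 ≫ e.inv := hw
    rw [← cancel_mono e.hom]
    have := fwd.comm x₀ x₁ hx w v (by
      change v.1 = w.1 ≫ e.hom
      rw [hw', Category.assoc, e.inv_hom_id, Category.comp_id])
    refine this.symm.trans ?_
    change (D.φ x₀ x₁ hx v).1 = ((D.φ x₀ x₁ hx v).1 ≫ e.inv) ≫ e.hom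
    rw [Category.assoc, e.inv_hom_id, Category.comp_id]⟩
  exact ⟨fwd, bwd, Desc.SchDD.hom_ext F.hom_inv_id, Desc.SchDD.hom_ext F.inv_hom_id⟩

/-- An isomorphism with the canonical datum gives a quotient. -/
theorem exists_quot_of_iso (D : Desc.SchDD p) (U : Over S) (α : (Desc.toDD p).obj U ≅ D) :
    ∃ q : D.obj.left ⟶ U.left, IsPullback q D.obj.hom U.hom p ∧
      ∀ (T : Scheme.{u}) (v : T ⟶ D.obj.left) (x : T ⟶ X) (e : v ≫ D.obj.hom ≫ p = x ≫ p),
        (ofDD D).act v x e ≫ q = v ≫ q := by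
  let i : D.obj.left ⟶ pullback p U.hom := α.inv.hom.left
  have hi : i ≫ pullback.fst p U.hom = D.obj.hom := Over.w α.inv.hom
  have h1 : i ≫ α.hom.hom.left = 𝟙 _ := by
    simp only [i, ← Over.comp_left, ← Desc.SchDD.comp_hom, α.inv_hom_id]; rfl
  have h2 : α.hom.hom.left ≫ i = 𝟙 _ := by
    simp only [i, ← Over.comp_left, ← Desc.SchDD.comp_hom, α.hom_inv_id]; rfl
  haveI : IsIso i := ⟨α.hom.hom.left, h1, h2⟩
  refine ⟨i ≫ pullback.snd p U.hom, ?_, fun T v x e => ?_⟩
  · refine (IsPullback.of_hasPullback p U.hom).flip.of_iso (asIso i).symm (Iso.refl _) (Iso.refl _) (Iso.refl _)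
      ?_ ?_ (by simp) (by simp)
    · simp
    · simp [← hi]
  · have hv : (v ≫ i) ≫ pullback.fst p U.hom = v ≫ D.obj.hom := by rw [Category.assoc, hi]
    have key := α.inv.comm (v ≫ D.obj.hom) x ((Category.assoc _ _ _).trans e) ⟨v, rfl⟩ ⟨v ≫ i, hv⟩ rfl
    have key2 : (Desc.canMap p U (v ≫ D.obj.hom) x ((Category.assoc _ _ _).trans e) ⟨v ≫ i, hv⟩).1 =
        (ofDD D).act v x e ≫ i := key
    have key3 := congrArg (· ≫ pullback.snd p U.hom) key2
    simpa [Category.assoc] using key3.symm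

/-- A datum is the canonical one of an etale scheme iff the action has an etale quotient. -/
theorem effEt_iff (D : Desc.SchDD p) :
    EffEt (ofDD D) ↔ ∃ U : Over S, Etale U.hom ∧ Nonempty ((Desc.toDD p).obj U ≅ D) := by
  constructor
  · rintro ⟨U, π, q, hπ, hpb, hc⟩
    exact ⟨Over.mk π, hπ, nonempty_iso_of_quot D π q hpb hc⟩
  · rintro ⟨U, hU, ⟨α⟩⟩
    obtain ⟨q, hpb, hc⟩ := exists_quot_of_iso D U α
    exact ⟨U.left, U.hom, q, hU, hpb, hc⟩

/-- The one-member family version. -/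
theorem effEt_fam_iff (D : Desc.SchDDFam (fun _ : PUnit.{1} => p)) :
    EffEt (ofDD ((Desc.SchDDFam.toSchDD p).obj D)) ↔
      ∃ U : Over S, Etale U.hom ∧ Nonempty ((Desc.toDDFam (fun _ : PUnit.{1} => p)).obj U ≅ D) := by
  rw [effEt_iff]
  constructor
  · rintro ⟨U, hU, ⟨α⟩⟩
    exact ⟨U, hU, ⟨(Desc.SchDDFam.ofSchDD p).mapIso α⟩⟩
  · rintro ⟨U, hU, ⟨α⟩⟩
    exact ⟨U, hU, ⟨(Desc.SchDDFam.toSchDD p).mapIso α⟩⟩

variable {V : Scheme.{u}} {h : V ⟶ X}

/-- Effectiveness only depends on the action on points. -/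
theorem effEt_congr {A B : Act h p}
    (H : ∀ (T : Scheme.{u}) (v : T ⟶ V) (x : T ⟶ X) (e : v ≫ h ≫ p = x ≫ p), A.act v x e = B.act v x e)
    (hE : EffEt A) : EffEt B := by
  obtain ⟨U, π, q, hπ, hpb, hc⟩ := hE
  exact ⟨U, π, q, hπ, hpb, fun T v x e => by rw [← H]; exact hc T v x e⟩

variable {V' X' S' : Scheme.{u}} {h' : V' ⟶ X'} {p' : X' ⟶ S'} {w : V' ⟶ V} {f : X' ⟶ X} {s : S' ⟶ S}

/-- Etale effectiveness is stable under base change. -/
theorem effEt_pullback (A : Act h p) (pb : IsPullback w h' h f) (hs : IsPullback f p' p s) (hE : EffEt A) :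
    EffEt (A.pullbackAct pb hs.w.symm) := by
  obtain ⟨U, π, q, hπ, hpb, hc⟩ := hE
  haveI : Etale (pullback.snd π s) := MorphismProperty.pullback_snd _ _ hπ
  let q' : V' ⟶ pullback π s := pullback.lift (w ≫ q) (h' ≫ p')
    (by rw [Category.assoc, hpb.w, reassoc_of% pb.w, hs.w, Category.assoc])
  refine ⟨_, pullback.snd π s, q', inferInstance, ?_, fun T v x e => ?_⟩
  · refine IsPullback.of_right (h₁₂ := pullback.fst π s) (h₂₂ := s) ?_ (pullback.lift_snd _ _ _)
      (IsPullback.of_hasPullback π s)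
    rw [pullback.lift_fst, ← hs.w]
    exact pb.paste_horiz hpb
  · apply pullback.hom_ext
    · simp only [q', Category.assoc, pullback.lift_fst]
      rw [← Category.assoc, Act.pullbackAct_w, hc, Category.assoc]
    · simp only [q', Category.assoc, pullback.lift_snd]
      rw [Act.act_hom_assoc, ← e]

/-- Etale effectiveness over an open of the base. -/
theorem effEtOn_preimage (A : Act h p) {O : S.Opens}
    (hE : EffEt (A.pullbackAct (isPullback_morphismRestrict h (p ⁻¹ᵁ O)).flip (morphismRestrict_ι p O))) :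
    EffEtOn A ((h ≫ p) ⁻¹ᵁ O) := by
  obtain ⟨U, π, q, hπ, hpb, hcompat⟩ := hE
  refine ⟨U, π ≫ O.ι, q, ⟨?_, fun T w₀ w₁ e he => ?_⟩, inferInstance⟩
  · have := hpb.paste_vert (isPullback_morphismRestrict p O)
    rw [morphismRestrict_ι] at this
    exact this
  · let pb := (isPullback_morphismRestrict h (p ⁻¹ᵁ O)).flip
    have e' : w₀ ≫ (h ∣_ (p ⁻¹ᵁ O)) ≫ (p ∣_ O) = (w₁ ≫ (h ∣_ (p ⁻¹ᵁ O))) ≫ (p ∣_ O) := by
      rw [← cancel_mono O.ι]
      simp only [Category.assoc, morphismRestrict_ι, morphismRestrict_ι_assoc]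
      simpa using e
    rw [← hcompat T w₀ _ e']
    congr 1
    apply pb.hom_ext
    · rw [Act.pullbackAct_w]
      refine he.symm.trans (A.congr rfl ?_ _ _)
      rw [Category.assoc, morphismRestrict_ι]; rfl
    · rw [Act.act_hom]

/-- Etale effectiveness is local on the base, for universally submersive morphisms. -/
theorem effEt_of_openCover [IsUS p] (A : Act h p) {ι : Type*} (O : ι → S.Opens) (hO : ⨆ i, O i = ⊤)
    (hE : ∀ i, EffEt (A.pullbackAct (isPullback_morphismRestrict h (p ⁻¹ᵁ O i)).flip (morphismRestrict_ι p (O i)))) :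
    EffEt A :=
  effEt_of_cover fun x => by
    obtain ⟨i, hi⟩ := Opens.mem_iSup.1 (hO.ge (Set.mem_univ ((h ≫ p) x)) : (h ≫ p) x ∈ ⨆ i, O i)
    exact ⟨_, hi, A.stable_preimage (O i), effEtOn_preimage A (hE i)⟩

variable {p₀ : X ⟶ S}

/-- The action of a pulled back datum. -/
theorem pullDD_act (D : Desc.SchDDFam (fun _ : PUnit.{1} => p)) (hw : f ≫ p = p' ≫ s) (T : Scheme.{u})
    (v : T ⟶ pullback (D.obj PUnit.unit).hom f) (x : T ⟶ X')
    (e : v ≫ pullback.snd (D.obj PUnit.unit).hom f ≫ p' = x ≫ p') :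
    (ofDD ((Desc.SchDDFam.toSchDD p').obj
      ((Desc.pullDDFam (f := fun _ : PUnit.{1} => p) (f' := fun _ : PUnit.{1} => p') (α := id) (p := s)
        (p' := fun _ => f) (fun _ => hw)).obj D))).act v x e =
      ((ofDD ((Desc.SchDDFam.toSchDD p).obj D)).pullbackAct (IsPullback.of_hasPullback _ f) hw.symm).act v x e := by
  apply pullback.hom_ext
  · refine Eq.trans ?_ (Act.pullbackAct_w _ (IsPullback.of_hasPullback _ f) hw.symm v x e).symm
    refine (pullback.lift_fst _ _ _).trans ?_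
    exact φ_congr ((Desc.SchDDFam.toSchDD p).obj D) (by
      change (v ≫ pullback.snd (D.obj PUnit.unit).hom f) ≫ f =
        (v ≫ pullback.fst (D.obj PUnit.unit).hom f) ≫ (D.obj PUnit.unit).hom
      rw [Category.assoc, Category.assoc, pullback.condition]) rfl _ _ _ _ rfl
  · exact (pullback.lift_snd _ _ _).trans ((IsPullback.of_hasPullback _ f).lift_snd _ _ _).symm

/-- Pulling back an effective datum. -/
theorem exists_pull_of_exists (D : Desc.SchDDFam (fun _ : PUnit.{1} => p)) (hs : IsPullback f p' p s)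
    (h0 : ∃ U : Over S, Etale U.hom ∧ Nonempty ((Desc.toDDFam (fun _ : PUnit.{1} => p)).obj U ≅ D)) :
    ∃ U : Over S', Etale U.hom ∧ Nonempty ((Desc.toDDFam (fun _ : PUnit.{1} => p')).obj U ≅
      (Desc.pullDDFam (f := fun _ : PUnit.{1} => p) (f' := fun _ : PUnit.{1} => p') (α := id) (p := s)
        (p' := fun _ => f) (fun _ => hs.w)).obj D) :=
  (effEt_fam_iff _).1 (effEt_congr (fun T v x e => (pullDD_act D hs.w T v x e).symm)
    (effEt_pullback _ (IsPullback.of_hasPullback _ f) hs ((effEt_fam_iff D).2 h0)))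

/-- Comparison of the two models of the restriction to an open of the base. -/
theorem effEt_restrict (A : Act h p) {O : S.Opens}
    (hA : EffEt (A.pullbackAct (IsPullback.of_hasPullback h (pullback.fst p O.ι))
      (pullback.condition (f := p) (g := O.ι)).symm)) :
    EffEt (A.pullbackAct (isPullback_morphismRestrict h (p ⁻¹ᵁ O)).flip (morphismRestrict_ι p O)) := by
  let pb := (isPullback_morphismRestrict h (p ⁻¹ᵁ O)).flip
  let f₂ : (p ⁻¹ᵁ O).toScheme ⟶ pullback p O.ι :=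
    pullback.lift (p ⁻¹ᵁ O).ι (p ∣_ O) (morphismRestrict_ι p O).symm
  let w₂ : (h ⁻¹ᵁ (p ⁻¹ᵁ O)).toScheme ⟶ pullback h (pullback.fst p O.ι) :=
    pullback.lift (h ⁻¹ᵁ (p ⁻¹ᵁ O)).ι ((h ∣_ (p ⁻¹ᵁ O)) ≫ f₂)
      (by rw [Category.assoc, pullback.lift_fst]; exact pb.w)
  have pb₂ : IsPullback w₂ (h ∣_ (p ⁻¹ᵁ O)) (pullback.snd h (pullback.fst p O.ι)) f₂ := by
    refine IsPullback.of_right (h₁₂ := pullback.fst _ _) (h₂₂ := pullback.fst p O.ι) ?_
      (pullback.lift_snd _ _ _) (IsPullback.of_hasPullback _ _)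
    rw [pullback.lift_fst, pullback.lift_fst]
    exact pb
  have hs₂ : IsPullback f₂ (p ∣_ O) (pullback.snd p O.ι) (𝟙 _) := by
    refine IsPullback.of_right (h₁₂ := pullback.fst _ _) (h₂₂ := O.ι) ?_
      (by rw [pullback.lift_snd, Category.comp_id]) (IsPullback.of_hasPullback _ _)
    rw [pullback.lift_fst, Category.id_comp]
    exact (isPullback_morphismRestrict p O).flip
  refine effEt_congr (fun T v x e => ?_) (effEt_pullback _ pb₂ hs₂ hA)
  apply pb.hom_ext
  · rw [Act.pullbackAct_w]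
    have h1 := Act.pullbackAct_w (A.pullbackAct (IsPullback.of_hasPullback h (pullback.fst p O.ι))
      (pullback.condition (f := p) (g := O.ι)).symm) pb₂ hs₂.w.symm v x e
    have hw₂ : (h ⁻¹ᵁ (p ⁻¹ᵁ O)).ι = w₂ ≫ pullback.fst h (pullback.fst p O.ι) := (pullback.lift_fst _ _ _).symm
    refine ((congrArg (_ ≫ ·) hw₂).trans (Category.assoc _ _ _).symm).trans ?_
    rw [h1, Act.pullbackAct_w]
    exact A.congr (by simp [w₂]) (by simp [f₂]) _ _
  · rw [Act.act_hom, Act.act_hom]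

/-- Effectiveness is local on the base. -/
theorem exists_of_openCover [IsUS p] (D : Desc.SchDDFam (fun _ : PUnit.{1} => p)) {ι : Type*}
    (O : ι → S.Opens) (hO : ⨆ i, O i = ⊤)
    (hE : ∀ i, ∃ U : Over (O i : Scheme.{u}), Etale U.hom ∧
      Nonempty ((Desc.toDDFam (fun _ : PUnit.{1} => pullback.snd p (O i).ι)).obj U ≅
        (Desc.pullDDFam (f := fun _ : PUnit.{1} => p) (f' := fun _ : PUnit.{1} => pullback.snd p (O i).ι)
          (α := id) (p := (O i).ι) (p' := fun _ => pullback.fst p (O i).ι) (fun _ => pullback.condition)).obj D)) :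
    ∃ U : Over S, Etale U.hom ∧ Nonempty ((Desc.toDDFam (fun _ : PUnit.{1} => p)).obj U ≅ D) := by
  refine (effEt_fam_iff D).1 (effEt_of_openCover _ O hO fun i => ?_)
  let hd := (D.obj PUnit.unit).hom
  let A := ofDD ((Desc.SchDDFam.toSchDD p).obj D)
  have hA : EffEt (A.pullbackAct (IsPullback.of_hasPullback hd (pullback.fst p (O i).ι))
      (pullback.condition (f := p) (g := (O i).ι)).symm) :=
    effEt_congr (fun T v x e => pullDD_act D pullback.condition T v x e) ((effEt_fam_iff _).2 (hE i))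
  exact effEt_restrict _ hA

end Groth.Pi1EtDesc
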