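import Groth.Agent.Pi1EtDesc.Model
import Groth.Agent.Limits.HomDescent
import Groth.Agent.S0591
import Groth.Agent.S9192
import Groth.Agent.S5132

/-!
# Etale effectiveness descends along limits with affine transition maps
-/

universe u

set_option autoImplicit false
set_option backward.isDefEq.respectTransparency false
set_option linter.style.haveILetI false

open CategoryTheory Limits AlgebraicGeometry TopologicalSpace

namespace Groth.Pi1EtDesc

open Groth.Pi1Desc Groth.Limits

theorem quasiCompact_and_quasiSeparated_of_quot {V' X' U' T : Scheme.{u}} {q : V' ⟶ U'} {h' : V' ⟶ X'}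
    {π' : U' ⟶ T} {p' : X' ⟶ T} (sq : IsPullback q h' π' p') [Surjective p'] [QuasiCompact p']
    [QuasiCompact h'] [QuasiSeparated h'] : QuasiCompact π' ∧ QuasiSeparated π' := by
  haveI := Groth.Agent.S5132.result.{u}
  haveI : MorphismProperty.DescendsAlong @QuasiSeparated
      (@Surjective ⊓ @QuasiCompact : MorphismProperty Scheme.{u}) := by
    rw [quasiSeparated_eq_diagonal_is_quasiCompact]; infer_instance
  have hQ : (@Surjective ⊓ @QuasiCompact : MorphismProperty Scheme.{u}) p' := ⟨‹_›, ‹_›⟩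
  exact ⟨MorphismProperty.of_isPullback_of_descendsAlong sq.flip hQ ‹QuasiCompact h'›,
    MorphismProperty.of_isPullback_of_descendsAlong sq.flip hQ ‹QuasiSeparated h'›⟩

section

variable {V X S S₁ : Scheme.{u}} {h : V ⟶ X} {p : X ⟶ S}

/-- Base change of an action along `s`, standard model. -/
noncomputable abbrev actBC (A : Act h p) (s : S₁ ⟶ S) :
    Act (pullback.snd h (pullback.fst p s)) (pullback.snd p s) :=
  A.pullbackAct (IsPullback.of_hasPullback h (pullback.fst p s)) (IsPullback.of_hasPullback p s).w.symm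

theorem effEt_actBC_congr (A : Act h p) {s s' : S₁ ⟶ S} (e : s = s') (hE : EffEt (actBC A s)) :
    EffEt (actBC A s') := by subst e; exact hE

/-- Iterated base change. -/
theorem effEt_actBC_comp_iff (A : Act h p) {S₂ : Scheme.{u}} (s : S₁ ⟶ S) (t : S₂ ⟶ S₁) :
    EffEt (actBC (actBC A s) t) ↔ EffEt (actBC A (t ≫ s)) := by
  refine (effEt_trans_iff A (IsPullback.of_hasPullback h (pullback.fst p s)) (IsPullback.of_hasPullback p s)
    (IsPullback.of_hasPullback _ _) (IsPullback.of_hasPullback _ t)).trans ?_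
  let pb₁ := IsPullback.of_hasPullback h (pullback.fst p s)
  let hs₁ := IsPullback.of_hasPullback p s
  let pb₃ := IsPullback.of_hasPullback (pullback.snd h (pullback.fst p s)) (pullback.fst (pullback.snd p s) t)
  let hs₃ := IsPullback.of_hasPullback (pullback.snd p s) t
  exact ⟨effEt_model A (pb₃.paste_horiz pb₁) (hs₃.paste_horiz hs₁) (IsPullback.of_hasPullback _ _)
      (IsPullback.of_hasPullback p (t ≫ s)),
    effEt_model A (IsPullback.of_hasPullback _ _) (IsPullback.of_hasPullback p (t ≫ s)) (pb₃.paste_horiz pb₁)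
      (hs₃.paste_horiz hs₁)⟩

end

variable {I : Type u} [SmallCategory I] [IsCofiltered I] {D : I ⥤ Scheme.{u}}
  [∀ (i j : I) (m : i ⟶ j), IsAffineHom (D.map m)] {c : Cone D} (hc : IsLimit c) {i : I}
  {X V : Scheme.{u}} {p : X ⟶ D.obj i} {h : V ⟶ X} (A : Act h p)

set_option maxHeartbeats 1000000 in
include hc in
/-- The case where the quotient in the limit comes from an etale scheme over the stage. -/
theorem exists_effEt_stage_of_model [IsAffine (D.obj i)] [LocallyOfFinitePresentation p] [QuasiCompact p]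
    [QuasiSeparated p] [Etale h] [QuasiCompact h] [QuasiSeparated h]
    {U : Scheme.{u}} (π : U ⟶ D.obj i) [Etale π] [QuasiCompact π] [QuasiSeparated π]
    (e : pullback (h ≫ p) (c.π.app i) ≅ pullback (pullback.fst π p ≫ π) (c.π.app i))
    (he₁ : e.hom ≫ pullback.snd _ _ = pullback.snd (h ≫ p) (c.π.app i))
    (he₂ : e.hom ≫ pullback.fst _ _ ≫ pullback.snd π p = pullback.fst (h ≫ p) (c.π.app i) ≫ h)
    (he₃ : pullback.lift
          (pullback.fst (pullback.fst (h ≫ p) p ≫ h ≫ p) (c.π.app i) ≫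
            A.act (pullback.fst (h ≫ p) p) (pullback.snd (h ≫ p) p) pullback.condition)
          (pullback.snd (pullback.fst (h ≫ p) p ≫ h ≫ p) (c.π.app i))
          (by
            rw [Category.assoc, Act.act_hom_assoc, ← pullback.condition (f := h ≫ p) (g := p)]
            exact pullback.condition) ≫ e.hom ≫ pullback.fst _ _ ≫ pullback.fst π p =
        pullback.lift (pullback.fst (pullback.fst (h ≫ p) p ≫ h ≫ p) (c.π.app i) ≫ pullback.fst (h ≫ p) p)
          (pullback.snd (pullback.fst (h ≫ p) p ≫ h ≫ p) (c.π.app i))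
          (by rw [Category.assoc]; exact pullback.condition) ≫ e.hom ≫ pullback.fst _ _ ≫ pullback.fst π p) :
    ∃ (j : I) (φ : j ⟶ i), EffEt (actBC A (D.map φ)) := by
  let x₀ := h ≫ p
  let y₀ := pullback.fst π p ≫ π
  let r₀ := pullback.fst (h ≫ p) p ≫ h ≫ p
  haveI : CompactSpace X := QuasiCompact.compactSpace_of_compactSpace p
  haveI : QuasiSeparatedSpace X := quasiSeparatedSpace_of_quasiSeparated p
  haveI : CompactSpace V := QuasiCompact.compactSpace_of_compactSpace h
  haveI : QuasiSeparatedSpace V := quasiSeparatedSpace_of_quasiSeparated h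
  haveI : CompactSpace U := QuasiCompact.compactSpace_of_compactSpace π
  haveI : QuasiSeparatedSpace U := quasiSeparatedSpace_of_quasiSeparated π
  haveI : CompactSpace ↥(pullback π p) := QuasiCompact.compactSpace_of_compactSpace (pullback.fst π p)
  haveI : QuasiSeparatedSpace ↥(pullback π p) := quasiSeparatedSpace_of_quasiSeparated (pullback.fst π p)
  haveI : CompactSpace ↥(pullback (h ≫ p) p) :=
    QuasiCompact.compactSpace_of_compactSpace (pullback.fst (h ≫ p) p)
  obtain ⟨j, φ, ej, hej, hlim⟩ := exists_iso_stage D x₀ hc y₀ e he₁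
  have hej₀ : ej.hom ≫ pullback.fst y₀ (D.map φ) ≫ pullback.fst π p ≫ π = pullback.fst x₀ (D.map φ) ≫ x₀ := by
    show ej.hom ≫ pullback.fst y₀ (D.map φ) ≫ y₀ = _
    rw [pullback.condition, reassoc_of% hej, pullback.condition]
  have hlim' : ∀ {Z : Scheme.{u}} (f : pullback π p ⟶ Z),
      stageProj D x₀ c φ ≫ ej.hom ≫ pullback.fst y₀ (D.map φ) ≫ f =
        e.hom ≫ pullback.fst y₀ (c.π.app i) ≫ f := fun f => by
    rw [reassoc_of% hlim, pullback.lift_fst_assoc]
  -- the isomorphism is over `X` at some stage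
  obtain ⟨l₁, q₁, h₁⟩ := exists_stageMap_comp_eq D x₀ hc p φ
    (ej.hom ≫ pullback.fst y₀ (D.map φ) ≫ pullback.snd π p) (pullback.fst x₀ (D.map φ) ≫ h)
    (by simp only [Category.assoc]; rw [← pullback.condition, hej₀]) (Category.assoc _ _ _)
    (by rw [hlim', he₂, pullback.lift_fst_assoc])
  -- invariance at some stage
  let d : pullback r₀ (D.map φ) ⟶ pullback x₀ (D.map φ) :=
    pullback.lift (pullback.fst r₀ (D.map φ) ≫ pullback.fst (h ≫ p) p) (pullback.snd r₀ (D.map φ))
      (by rw [Category.assoc]; exact pullback.condition)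
  let σ : pullback r₀ (D.map φ) ⟶ pullback x₀ (D.map φ) :=
    pullback.lift (pullback.fst r₀ (D.map φ) ≫
        A.act (pullback.fst (h ≫ p) p) (pullback.snd (h ≫ p) p) pullback.condition)
      (pullback.snd r₀ (D.map φ)) (by
        rw [Category.assoc, Act.act_hom_assoc, ← pullback.condition (f := h ≫ p) (g := p)]
        exact pullback.condition)
  obtain ⟨l₂, q₂, h₂⟩ := exists_stageMap_comp_eq D r₀ hc π φ
    (σ ≫ ej.hom ≫ pullback.fst y₀ (D.map φ) ≫ pullback.fst π p)
    (d ≫ ej.hom ≫ pullback.fst y₀ (D.map φ) ≫ pullback.fst π p)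
    (by
      simp only [Category.assoc]
      rw [hej₀, pullback.lift_fst_assoc, Category.assoc, Act.act_hom_assoc,
        ← pullback.condition (f := h ≫ p) (g := p)])
    (by simp only [Category.assoc]; rw [hej₀, pullback.lift_fst_assoc, Category.assoc])
    (by
      have l1 : stageProj D r₀ c φ ≫ σ = pullback.lift (pullback.fst r₀ (c.π.app i) ≫
          A.act (pullback.fst (h ≫ p) p) (pullback.snd (h ≫ p) p) pullback.condition)
          (pullback.snd r₀ (c.π.app i)) (by
            rw [Category.assoc, Act.act_hom_assoc, ← pullback.condition (f := h ≫ p) (g := p)]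
            exact pullback.condition) ≫ stageProj D x₀ c φ := by
        apply pullback.hom_ext <;> simp [σ]
      have l2 : stageProj D r₀ c φ ≫ d = pullback.lift (pullback.fst r₀ (c.π.app i) ≫ pullback.fst (h ≫ p) p)
          (pullback.snd r₀ (c.π.app i)) (by rw [Category.assoc]; exact pullback.condition) ≫
            stageProj D x₀ c φ := by
        apply pullback.hom_ext <;> simp [d]
      rw [reassoc_of% l1, reassoc_of% l2, hlim']
      exact he₃)
  obtain ⟨l, s₁, s₂, hs⟩ := IsCofiltered.cospan q₁ q₂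
  let χ : l ⟶ i := (s₁ ≫ q₁) ≫ φ
  let mx := stageMap D x₀ φ χ (s₁ ≫ q₁) rfl
  let my := stageMap D y₀ φ χ (s₁ ≫ q₁) rfl
  have hej' : ej.inv ≫ pullback.snd x₀ (D.map φ) = pullback.snd y₀ (D.map φ) := by rw [Iso.inv_comp_eq, hej]
  let E : pullback x₀ (D.map χ) ⟶ pullback y₀ (D.map χ) :=
    pullback.lift (mx ≫ ej.hom ≫ pullback.fst _ _) (pullback.snd _ _) (by
      show _ ≫ pullback.fst π p ≫ π = _
      simp only [mx, Category.assoc, hej₀, pullback.lift_fst_assoc]
      exact pullback.condition)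
  let E' : pullback y₀ (D.map χ) ⟶ pullback x₀ (D.map χ) :=
    pullback.lift (my ≫ ej.inv ≫ pullback.fst _ _) (pullback.snd _ _) (by
      simp only [my, Category.assoc, pullback.condition, reassoc_of% hej', pullback.lift_snd_assoc]
      rw [← Functor.map_comp])
  have hEm : E ≫ my = mx ≫ ej.hom := by
    apply pullback.hom_ext <;> simp [E, my, mx, hej]
  have hEm' : E' ≫ mx = my ≫ ej.inv := by
    apply pullback.hom_ext <;> simp [E', my, mx, hej']
  haveI : IsIso E := ⟨E', by
    apply pullback.hom_ext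
    · rw [Category.assoc, show E' ≫ pullback.fst x₀ (D.map χ) = my ≫ ej.inv ≫ pullback.fst _ _ from
        pullback.lift_fst _ _ _, reassoc_of% hEm, Iso.hom_inv_id_assoc]
      simp [mx]
    · simp [E, E'], by
    apply pullback.hom_ext
    · rw [Category.assoc, show E ≫ pullback.fst y₀ (D.map χ) = mx ≫ ej.hom ≫ pullback.fst _ _ from
        pullback.lift_fst _ _ _, reassoc_of% hEm', Iso.inv_hom_id_assoc]
      simp [my]
    · simp [E, E']⟩
  refine ⟨l, χ, effEt_of_iso A π (IsPullback.of_hasPullback _ _) (IsPullback.of_hasPullback p (D.map χ)) E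
    (pullback.lift_snd _ _ _) ?_ ?_⟩
  · have h₁' := congrArg (stageMap D x₀ (q₁ ≫ φ) χ s₁ (Category.assoc _ _ _).symm ≫ ·) h₁
    simp only [← Category.assoc, stageMap_comp] at h₁'
    simp only [Category.assoc] at h₁'
    rw [reassoc_of% (show E ≫ pullback.fst y₀ (D.map χ) = mx ≫ ej.hom ≫ pullback.fst _ _ from
      pullback.lift_fst _ _ _)]
    exact h₁'.trans (pullback.lift_fst_assoc _ _ _ _)
  · have h₂' := congrArg (stageMap D r₀ (q₂ ≫ φ) χ s₂
      (by simp only [χ, Category.assoc]; rw [reassoc_of% hs]) ≫ ·) h₂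
    simp only [← Category.assoc, stageMap_comp] at h₂'
    simp only [Category.assoc] at h₂'
    rw [reassoc_of% (show E ≫ pullback.fst y₀ (D.map χ) = mx ≫ ej.hom ≫ pullback.fst _ _ from
      pullback.lift_fst _ _ _)]
    have l1 : stageMap D r₀ φ χ (s₁ ≫ q₁) rfl ≫ σ = pullback.lift (pullback.fst r₀ (D.map χ) ≫
        A.act (pullback.fst (h ≫ p) p) (pullback.snd (h ≫ p) p) pullback.condition)
        (pullback.snd r₀ (D.map χ)) (by
          rw [Category.assoc, Act.act_hom_assoc, ← pullback.condition (f := h ≫ p) (g := p)]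
          exact pullback.condition) ≫ mx := by
      apply pullback.hom_ext <;> simp [σ, mx]
    have l2 : stageMap D r₀ φ χ (s₁ ≫ q₁) rfl ≫ d =
        pullback.lift (pullback.fst r₀ (D.map χ) ≫ pullback.fst (h ≫ p) p)
          (pullback.snd r₀ (D.map χ)) (by rw [Category.assoc]; exact pullback.condition) ≫ mx := by
      apply pullback.hom_ext <;> simp [d, mx]
    have hs' : s₂ ≫ q₂ = s₁ ≫ q₁ := hs.symm
    simp only [hs'] at h₂'
    rw [reassoc_of% l1, reassoc_of% l2] at h₂'
    exact h₂'

include hc in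
/-- Etale effectiveness in the limit holds at some stage. -/
theorem exists_effEt_stage [∀ j, IsAffine (D.obj j)] [LocallyOfFinitePresentation p] [QuasiCompact p]
    [QuasiSeparated p] [Surjective p] [Etale h] [QuasiCompact h] [QuasiSeparated h]
    (hE : EffEt (actBC A (c.π.app i))) : ∃ (j : I) (φ : j ⟶ i), EffEt (actBC A (D.map φ)) := by
  obtain ⟨Ua, πa, qa, hπa, hqa, hca⟩ := hE
  haveI : QuasiCompact (pullback.snd p (c.π.app i)) := inferInstance
  haveI : Surjective (pullback.snd p (c.π.app i)) := inferInstance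
  haveI := (quasiCompact_and_quasiSeparated_of_quot hqa).1
  haveI := (quasiCompact_and_quasiSeparated_of_quot hqa).2
  obtain ⟨j₀, U₀, π₀, g₀, _, _, _, hU₀⟩ := Groth.Agent.S0591.result D c hc Ua πa
  haveI : CompactSpace U₀ := QuasiCompact.compactSpace_of_compactSpace π₀
  haveI : QuasiSeparatedSpace U₀ := quasiSeparatedSpace_of_quasiSeparated π₀
  obtain ⟨j₁, φ₁, U₁, Y₁, f₁, t₁, pY, pU, hY₁, hU₁, _⟩ :=
    Groth.Agent.S9192.result D c hc j₀ π₀ (𝟙 _) πa (𝟙 _) (c.π.app j₀) g₀
      (IsPullback.of_vert_isIso ⟨by simp⟩) hU₀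
  haveI : IsIso t₁ := hY₁.isIso_snd_of_isIso
  have hU₁' : IsPullback pU (f₁ ≫ t₁) π₀ (D.map φ₁) := by
    have := hU₁.paste_vert hY₁
    rwa [Category.comp_id] at this
  obtain ⟨j, φ, ψ⟩ : ∃ j : I, ∃ (_ : j ⟶ i), Nonempty (j ⟶ j₁) :=
    ⟨_, IsCofiltered.minToLeft i j₁, ⟨IsCofiltered.minToRight i j₁⟩⟩
  obtain ⟨ψ⟩ := ψ
  let π := pullback.snd (f₁ ≫ t₁) (D.map ψ)
  haveI : Etale (f₁ ≫ t₁) := inferInstance
  haveI : Etale π := MorphismProperty.pullback_snd _ _ ‹Etale (f₁ ≫ t₁)›
  haveI : QuasiCompact (f₁ ≫ t₁) := MorphismProperty.of_isPullback hU₁' ‹QuasiCompact π₀›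
  haveI : QuasiSeparated (f₁ ≫ t₁) := MorphismProperty.of_isPullback hU₁' ‹QuasiSeparated π₀›
  haveI : QuasiCompact π := MorphismProperty.pullback_snd _ _ ‹QuasiCompact (f₁ ≫ t₁)›
  haveI : QuasiSeparated π := MorphismProperty.pullback_snd _ _ ‹QuasiSeparated (f₁ ≫ t₁)›
  -- the limit is a base change of the stage `j`
  have hφ₁ : c.π.app j ≫ D.map ψ ≫ D.map φ₁ = c.π.app j₀ := by rw [c.w_assoc, c.w]
  have hUj : IsPullback (pullback.fst (f₁ ≫ t₁) (D.map ψ) ≫ pU) π π₀ (D.map ψ ≫ D.map φ₁) :=
    (IsPullback.of_hasPullback _ _).paste_horiz hU₁'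
  let gU : Ua ⟶ pullback (f₁ ≫ t₁) (D.map ψ) := hUj.lift g₀ (πa ≫ c.π.app j) (by
    rw [Category.assoc, hφ₁]; exact hU₀.w)
  have hgU : IsPullback gU πa π (c.π.app j) := by
    refine IsPullback.of_right ?_ (hUj.lift_snd _ _ _) hUj
    rw [hUj.lift_fst, hφ₁]; exact hU₀
  -- move to the stage `j`
  let A' := actBC A (D.map φ)
  let fj : pullback p (c.π.app i) ⟶ pullback p (D.map φ) :=
    pullback.lift (pullback.fst p (c.π.app i)) (pullback.snd p (c.π.app i) ≫ c.π.app j)
      (by rw [Category.assoc, c.w, pullback.condition])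
  have hsj : IsPullback fj (pullback.snd p (c.π.app i)) (pullback.snd p (D.map φ)) (c.π.app j) := by
    refine IsPullback.of_right ?_ (pullback.lift_snd _ _ _) (IsPullback.of_hasPullback p (D.map φ))
    rw [pullback.lift_fst, c.w]
    exact IsPullback.of_hasPullback _ _
  let wj : pullback h (pullback.fst p (c.π.app i)) ⟶ pullback h (pullback.fst p (D.map φ)) :=
    pullback.lift (pullback.fst _ _) (pullback.snd _ _ ≫ fj)
      (by rw [Category.assoc, pullback.lift_fst, pullback.condition])
  have hwj : IsPullback wj (pullback.snd h (pullback.fst p (c.π.app i)))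
      (pullback.snd h (pullback.fst p (D.map φ))) fj := by
    refine IsPullback.of_right ?_ (pullback.lift_snd _ _ _)
      (IsPullback.of_hasPullback h (pullback.fst p (D.map φ)))
    rw [pullback.lift_fst, pullback.lift_fst]
    exact IsPullback.of_hasPullback _ _
  obtain ⟨e, he₁, he₂, he₃⟩ := exists_iso_of_quot A' π hwj hsj hgU qa hqa fun T v x ex => by
    have key : (A'.pullbackAct hwj hsj.w.symm).act v x ex = (actBC A (c.π.app i)).act v x ex := by
      apply (IsPullback.of_hasPullback h (pullback.fst p (c.π.app i))).hom_ext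
      · refine Eq.trans ?_ ((IsPullback.of_hasPullback h _).lift_fst _ _ _).symm
        have hw : pullback.fst h (pullback.fst p (c.π.app i)) = wj ≫ pullback.fst h (pullback.fst p (D.map φ)) :=
          (pullback.lift_fst _ _ _).symm
        refine ((congrArg (_ ≫ ·) hw).trans (Category.assoc _ _ _).symm).trans ?_
        rw [Act.pullbackAct_w, Act.pullbackAct_w]
        exact A.congr (by simp [wj]) (by simp [fj]) _ _
      · exact ((A'.pullbackAct hwj hsj.w.symm).act_hom v x ex).trans ((actBC A (c.π.app i)).act_hom v x ex).symm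
    rw [key]; exact hca T v x ex
  obtain ⟨l, ξ, hl⟩ := exists_effEt_stage_of_model hc A' π e he₁ he₂ he₃
  exact ⟨l, ξ ≫ φ, effEt_actBC_congr A (D.map_comp ξ φ).symm ((effEt_actBC_comp_iff A _ _).1 hl)⟩

end Groth.Pi1EtDesc

namespace Groth.Pi1EtDesc

open Groth.Pi1Desc Groth.Limits

/-- Effectiveness of the pulled back datum, in terms of the action. -/
theorem effEt_actBC_iff {X S S₁ : Scheme.{u}} {p : X ⟶ S} (D : Desc.SchDDFam (fun _ : PUnit.{1} => p))
    (s : S₁ ⟶ S) :
    EffEt (actBC (ofDD ((Desc.SchDDFam.toSchDD p).obj D)) s) ↔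
      ∃ U : Over S₁, Etale U.hom ∧ Nonempty ((Desc.toDDFam (fun _ : PUnit.{1} => pullback.snd p s)).obj U ≅
        (Desc.pullDDFam (f := fun _ : PUnit.{1} => p) (f' := fun _ : PUnit.{1} => pullback.snd p s)
          (α := id) (p := s) (p' := fun _ => pullback.fst p s) (fun _ => pullback.condition)).obj D) :=
  ⟨fun hE => (effEt_fam_iff _).1 (effEt_congr (fun T v x e => (pullDD_act D pullback.condition T v x e).symm) hE),
    fun hE => effEt_congr (fun T v x e => pullDD_act D pullback.condition T v x e) ((effEt_fam_iff _).2 hE)⟩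

end Groth.Pi1EtDesc
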