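import Groth.Agent.Pi1EtDesc.Spread
import Groth.Agent.Pi1Desc.Separated
import Groth.Agent.Pi1Desc.Fpqc
import Groth.Agent.DescentBase.DimEtale
import Groth.Agent.EtaleBase.FpqcDescent

/-!
# fpqc descent of etale quotients
-/

universe u

set_option autoImplicit false
set_option backward.isDefEq.respectTransparency false
set_option linter.style.haveILetI false

open CategoryTheory Limits AlgebraicGeometry TopologicalSpace

namespace Groth.Pi1EtDesc

open Groth.Pi1Desc

/-- `π` is a quotient of the action. -/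
def EffWith {V X S : Scheme.{u}} {h : V ⟶ X} {p : X ⟶ S} (A : Act h p) {U : Scheme.{u}} (π : U ⟶ S) : Prop :=
  ∃ q : V ⟶ U, IsPullback q h π p ∧
    ∀ (T : Scheme.{u}) (v : T ⟶ V) (x : T ⟶ X) (e : v ≫ h ≫ p = x ≫ p), A.act v x e ≫ q = v ≫ q

/-- Maps into etale schemes are determined after a surjective base change. -/
theorem eq_of_comp_eq_of_surjective {S T T' Z : Scheme.{u}} (ζ : Z ⟶ S) [Etale ζ] (c : T' ⟶ T) [Surjective c]
    {a b : T ⟶ Z} (hS : a ≫ ζ = b ≫ ζ) (h : c ≫ a = c ≫ b) : a = b := by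
  let δ := pullback.diagonal ζ
  let e := pullback.lift a b hS
  let j := pullback.snd δ e
  let k : T' ⟶ pullback δ e := pullback.lift (c ≫ a) c (by
    apply pullback.hom_ext <;> simp [δ, e, h])
  have : Surjective j := ⟨fun x => by
    obtain ⟨x', rfl⟩ := c.surjective x
    exact ⟨k x', by rw [← Scheme.Hom.comp_apply]; simp [k, j]⟩⟩
  have : IsIso j := Groth.Agent.S3709.isIso_of_isOpenImmersion_surjective j
  have h1 : pullback.fst δ e ≫ δ = j ≫ e := pullback.condition
  have h2 := h1 =≫ pullback.fst ζ ζ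
  have h3 := h1 =≫ pullback.snd ζ ζ
  simp [δ, e] at h2 h3
  exact (cancel_epi j).1 (h2.symm.trans h3)

variable {V X S S₁ U₁ : Scheme.{u}} {h : V ⟶ X} {p : X ⟶ S} {b : S₁ ⟶ S} {A : Act h p} {π₁ : U₁ ⟶ S₁}
  {q₁ : pullback h (pullback.fst p b) ⟶ U₁}

variable (b) in
/-- The point of the base change with the same component over `V` and the given component over the base. -/
noncomputable def mkPt {T : Scheme.{u}} (z : T ⟶ V) (y : T ⟶ S₁) (e : z ≫ h ≫ p = y ≫ b) :
    T ⟶ pullback h (pullback.fst p b) :=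
  pullback.lift z (pullback.lift (z ≫ h) y ((Category.assoc _ _ _).trans e)) (by rw [pullback.lift_fst])

theorem mkPt_fst {T : Scheme.{u}} (z : T ⟶ V) (y : T ⟶ S₁) (e : z ≫ h ≫ p = y ≫ b) :
    mkPt b z y e ≫ pullback.fst _ _ = z := pullback.lift_fst _ _ _

theorem mkPt_base {T : Scheme.{u}} (z : T ⟶ V) (y : T ⟶ S₁) (e : z ≫ h ≫ p = y ≫ b) :
    mkPt b z y e ≫ pullback.snd _ _ ≫ pullback.snd p b = y := by simp [mkPt]

theorem pt_ext {T : Scheme.{u}} {z z' : T ⟶ pullback h (pullback.fst p b)}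
    (h1 : z ≫ pullback.fst _ _ = z' ≫ pullback.fst _ _)
    (h2 : z ≫ pullback.snd _ _ ≫ pullback.snd p b = z' ≫ pullback.snd _ _ ≫ pullback.snd p b) : z = z' := by
  refine pullback.hom_ext h1 (pullback.hom_ext ?_ ?_)
  · rw [Category.assoc, Category.assoc, ← pullback.condition, reassoc_of% h1]
  · simpa using h2

variable (hq : IsPullback q₁ (pullback.snd h (pullback.fst p b)) π₁ (pullback.snd p b))
  (hc : ∀ (T : Scheme.{u}) (v : T ⟶ pullback h (pullback.fst p b)) (x : T ⟶ pullback p b)
    (e : v ≫ pullback.snd h (pullback.fst p b) ≫ pullback.snd p b = x ≫ pullback.snd p b),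
    (actBC A b).act v x e ≫ q₁ = v ≫ q₁)

include hq hc in
/-- The class of the transported point does not depend on the representative. -/
theorem q_eq {T : Scheme.{u}} (z₁ z₂ z₁' z₂' : T ⟶ pullback h (pullback.fst p b))
    (hz : z₁ ≫ q₁ = z₂ ≫ q₁) (h1 : z₁' ≫ pullback.fst _ _ = z₁ ≫ pullback.fst _ _)
    (h2 : z₂' ≫ pullback.fst _ _ = z₂ ≫ pullback.fst _ _)
    (hy : z₁' ≫ pullback.snd _ _ ≫ pullback.snd p b = z₂' ≫ pullback.snd _ _ ≫ pullback.snd p b) :
    z₁' ≫ q₁ = z₂' ≫ q₁ := by
  let h₁ := pullback.snd h (pullback.fst p b)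
  let p₁ := pullback.snd p b
  have e : z₁ ≫ h₁ ≫ p₁ = (z₂ ≫ h₁) ≫ p₁ := by
    simp only [h₁, p₁, Category.assoc, ← hq.w, reassoc_of% hz]
  have hact : (actBC A b).act z₁ (z₂ ≫ h₁) e = z₂ :=
    hq.hom_ext ((hc _ _ _ e).trans hz) (Act.act_hom _ _ _ _)
  have hactw := congrArg (· ≫ pullback.fst h (pullback.fst p b)) hact
  simp only [Act.pullbackAct_w] at hactw
  have e' : z₁' ≫ h₁ ≫ p₁ = (z₂' ≫ h₁) ≫ p₁ := by rw [Category.assoc]; exact hy
  have hact' : (actBC A b).act z₁' (z₂' ≫ h₁) e' = z₂' := by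
    refine pullback.hom_ext ?_ (Act.act_hom _ _ _ _)
    rw [Act.pullbackAct_w, h2, ← hactw]
    refine A.congr h1 ?_ _ _
    simp only [h₁, Category.assoc, ← pullback.condition, reassoc_of% h2]
  rw [← hc _ _ _ e', hact']

variable (b π₁ q₁) in
/-- `v` is the transport of the point `u` to the point `y` of the base. -/
def IsTr {T : Scheme.{u}} (u : T ⟶ U₁) (y : T ⟶ S₁) (v : T ⟶ U₁) : Prop :=
  v ≫ π₁ = y ∧ ∀ (T' : Scheme.{u}) (c : T' ⟶ T) (z z' : T' ⟶ pullback h (pullback.fst p b)),
    z ≫ q₁ = c ≫ u → z' ≫ pullback.fst _ _ = z ≫ pullback.fst _ _ →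
    z' ≫ pullback.snd _ _ ≫ pullback.snd p b = c ≫ y → z' ≫ q₁ = c ≫ v

variable [IsUS p] [Etale π₁]

omit [Etale π₁] in
include hq in
theorem us_q : SGA1.UnivSubmersive q₁ :=
  haveI : (SGA1.UnivSubmersive.{u}).IsStableUnderBaseChange :=
    inferInstanceAs (MorphismProperty.universally _).IsStableUnderBaseChange
  MorphismProperty.of_isPullback hq.flip
    (MorphismProperty.of_isPullback (IsPullback.of_hasPullback p b) IsUS.us)

include hq hc in
theorem existsUnique_isTr {T : Scheme.{u}} (u : T ⟶ U₁) (y : T ⟶ S₁) (e : u ≫ π₁ ≫ b = y ≫ b) :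
    ∃! v, IsTr b π₁ q₁ u y v := by
  haveI : (SGA1.UnivSubmersive.{u}).IsStableUnderBaseChange :=
    inferInstanceAs (MorphismProperty.universally _).IsStableUnderBaseChange
  let c := pullback.snd q₁ u
  let z := pullback.fst q₁ u
  have hz : z ≫ q₁ = c ≫ u := pullback.condition
  have hzS : (z ≫ pullback.fst h (pullback.fst p b)) ≫ h ≫ p = (c ≫ y) ≫ b := by
    rw [Category.assoc, pullback.condition_assoc, pullback.condition, ← reassoc_of% hq.w,
      reassoc_of% hz, e, Category.assoc]
  let z' := mkPt b _ _ hzS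
  have hcU : SGA1.UnivSubmersive c := MorphismProperty.pullback_snd _ _ (us_q hq)
  haveI : Surjective c := ⟨(MorphismProperty.universally_le _ _ hcU : Topology.IsQuotientMap c.base).surjective⟩
  haveI : Etale (pullback.fst y π₁) := MorphismProperty.pullback_fst _ _ ‹Etale π₁›
  have hz'π : (z' ≫ q₁) ≫ π₁ = c ≫ y := by
    rw [Category.assoc, hq.w]; exact mkPt_base _ _ _
  obtain ⟨s, ⟨hs, hsσ⟩, -⟩ := Groth.Agent.S3709.existsUnique_section c hcU (pullback.fst y π₁)
    (pullback.lift c (z' ≫ q₁) hz'π.symm) (pullback.lift_fst _ _ _) fun t₁ t₂ ht => by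
      apply pullback.hom_ext
      · simpa using ht
      · simp only [Category.assoc, pullback.lift_snd]
        have := q_eq hq hc (t₁ ≫ z) (t₂ ≫ z) (t₁ ≫ z') (t₂ ≫ z')
          (by rw [Category.assoc, Category.assoc, hz, reassoc_of% ht])
          (by simp [z', mkPt_fst]) (by simp [z', mkPt_fst])
          (by simp only [Category.assoc, z', mkPt_base]; rw [reassoc_of% ht])
        simpa using this
  have hv : (s ≫ pullback.snd y π₁) ≫ π₁ = y := by
    rw [Category.assoc, ← pullback.condition, reassoc_of% hs]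
  have hcv : c ≫ s ≫ pullback.snd y π₁ = z' ≫ q₁ := by rw [reassoc_of% hsσ, pullback.lift_snd]
  refine ⟨s ≫ pullback.snd y π₁, ⟨hv, fun T' c' w w' h1 h2 h3 => ?_⟩, fun v ⟨hv', hvu⟩ => ?_⟩
  · let d : T' ⟶ pullback q₁ u := pullback.lift w c' h1
    have hdc : d ≫ c = c' := pullback.lift_snd _ _ _
    have hdz : d ≫ z = w := pullback.lift_fst _ _ _
    have := q_eq hq hc (d ≫ z) w (d ≫ z') w' (by rw [hdz])
      (by simp [z', mkPt_fst]) h2 (by simp only [Category.assoc, z', mkPt_base, h3]; rw [reassoc_of% hdc])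
    rw [← this, ← hdc, Category.assoc, Category.assoc, hcv]
  · refine eq_of_comp_eq_of_surjective π₁ c (hv'.trans hv.symm) ?_
    rw [hcv, hvu _ c z z' hz (mkPt_fst _ _ _) (mkPt_base _ _ _)]

/-- The descent datum on the quotient. -/
noncomputable def quotAct : Act π₁ b where
  act u y e := (existsUnique_isTr hq hc u y e).exists.choose
  act_hom u y e := (existsUnique_isTr hq hc u y e).exists.choose_spec.1
  act_self u y e hx := by
    refine (existsUnique_isTr hq hc u y e).unique (existsUnique_isTr hq hc u y e).exists.choose_spec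
      ⟨hx, fun T' c z z' h1 h2 h3 => ?_⟩
    have : z' = z := pt_ext h2 (by rw [h3, ← hq.w, reassoc_of% h1, hx])
    rw [this, h1]
  act_act u y y' e e' e'' := by
    have hv := (existsUnique_isTr hq hc u y e).exists.choose_spec
    generalize (existsUnique_isTr hq hc u y e).exists.choose = v at hv e'' ⊢
    have hv' := (existsUnique_isTr hq hc v y' e'').exists.choose_spec
    refine (existsUnique_isTr hq hc u y' e').unique ⟨hv'.1, fun T' c z z'' h1 h2 h3 => ?_⟩
      (existsUnique_isTr hq hc u y' e').exists.choose_spec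
    have he : (z ≫ pullback.fst h (pullback.fst p b)) ≫ h ≫ p = (c ≫ y) ≫ b := by
      rw [Category.assoc, pullback.condition_assoc, pullback.condition, ← reassoc_of% hq.w,
        reassoc_of% h1, e, Category.assoc]
    have h4 := hv.2 T' c z (mkPt b _ _ he) h1 (mkPt_fst _ _ _) (mkPt_base _ _ _)
    exact hv'.2 T' c (mkPt b _ _ he) z'' h4 (h2.trans (mkPt_fst _ _ _).symm) h3
  act_comp g u y e e' := by
    have hv := (existsUnique_isTr hq hc u y e).exists.choose_spec
    refine (existsUnique_isTr hq hc _ _ e').unique (existsUnique_isTr hq hc _ _ e').exists.choose_spec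
      ⟨by rw [Category.assoc, hv.1], fun T' c z z' h1 h2 h3 => ?_⟩
    rw [← Category.assoc]
    exact hv.2 T' (c ≫ g) z z' (by rw [h1, Category.assoc]) h2 (by rw [h3, Category.assoc])

theorem quotAct_spec {T : Scheme.{u}} (u : T ⟶ U₁) (y : T ⟶ S₁) (e : u ≫ π₁ ≫ b = y ≫ b) :
    IsTr b π₁ q₁ u y ((quotAct hq hc).act u y e) :=
  (existsUnique_isTr hq hc u y e).exists.choose_spec

include hq hc in
set_option maxHeartbeats 800000 in
/-- An etale separated quasi-compact quotient over an fpqc cover of the base descends. -/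
theorem exists_effWith_of_fpqc [Flat b] [Surjective b] [QuasiCompact b] [IsSeparated π₁] [QuasiCompact π₁] :
    ∃ (U : Scheme.{u}) (π : U ⟶ S), Etale π ∧ IsSeparated π ∧ QuasiCompact π ∧ EffWith A π := by
  haveI : LocallyQuasiFinite π₁ := Groth.DescentBase.locallyQuasiFinite_of_etale _
  obtain ⟨U, π, r, hr, hrc⟩ := Act.eff_of_isQuasiAffineHom
    (isQuasiAffineHom_of_locallyQuasiFinite π₁) (quotAct hq hc)
  have hQ : (@Surjective ⊓ @Flat ⊓ @QuasiCompact : MorphismProperty Scheme.{u}) b :=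
    ⟨⟨inferInstance, inferInstance⟩, inferInstance⟩
  refine ⟨U, π, MorphismProperty.of_isPullback_of_descendsAlong hr.flip hQ ‹Etale π₁›,
    MorphismProperty.of_isPullback_of_descendsAlong hr.flip hQ ‹IsSeparated π₁›,
    MorphismProperty.of_isPullback_of_descendsAlong hr.flip hQ ‹QuasiCompact π₁›, ?_⟩
  let w := pullback.fst h (pullback.fst p b)
  let h₁ := pullback.snd h (pullback.fst p b)
  let p₁ := pullback.snd p b
  have sqV : IsPullback w (h₁ ≫ p₁) (h ≫ p) b :=
    (IsPullback.of_hasPullback h (pullback.fst p b)).paste_vert (IsPullback.of_hasPullback p b)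
  haveI : IsCover w := IsCover.of_isPullback (p := b) sqV.flip
  haveI : EffectiveEpi w := IsCover.effectiveEpi w
  have hf : ∀ {T : Scheme.{u}} (t₁ t₂ : T ⟶ pullback h (pullback.fst p b)), t₁ ≫ w = t₂ ≫ w →
      t₁ ≫ q₁ ≫ r = t₂ ≫ q₁ ≫ r := by
    intro T t₁ t₂ ht
    have e : (t₁ ≫ q₁) ≫ π₁ ≫ b = (t₂ ≫ h₁ ≫ p₁) ≫ b := by
      rw [Category.assoc, reassoc_of% hq.w]
      simp only [Category.assoc]
      have := sqV.w
      simp only [Category.assoc] at this
      rw [← this, reassoc_of% ht]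
    have h1 := (quotAct_spec hq hc _ _ e).2 T (𝟙 T) t₁ t₂ (Category.id_comp _).symm ht.symm
      (Category.id_comp _).symm
    rw [Category.id_comp] at h1
    have h2 := hrc _ _ _ e
    rw [← h1] at h2
    simpa using h2.symm
  let q := EffectiveEpi.desc w (q₁ ≫ r) hf
  have hwq : w ≫ q = q₁ ≫ r := EffectiveEpi.fac _ _ _
  have hqπ : q ≫ π = h ≫ p := by
    rw [← cancel_epi w, reassoc_of% hwq, hr.w, reassoc_of% hq.w, sqV.w, Category.assoc]
  refine ⟨q, ?_, fun T v x e => ?_⟩
  · let c : V ⟶ pullback π p := pullback.lift q h hqπ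
    suffices IsIso c from IsPullback.of_iso_pullback ⟨hqπ⟩ (asIso c) (pullback.lift_fst _ _ _) (pullback.lift_snd _ _ _)
    let m : pullback π₁ p₁ ⟶ pullback π p :=
      pullback.lift (pullback.fst _ _ ≫ r) (pullback.snd _ _ ≫ pullback.fst p b) (by
        rw [Category.assoc, hr.w, pullback.condition_assoc, Category.assoc, pullback.condition])
    have sqm : IsPullback m (pullback.snd π₁ p₁) (pullback.snd π p) (pullback.fst p b) := by
      refine IsPullback.of_right (h₁₂ := pullback.fst π p) (h₂₂ := p) ?_ (pullback.lift_snd _ _ _)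
        (IsPullback.of_hasPullback π p)
      rw [pullback.lift_fst, pullback.condition]
      exact (IsPullback.of_hasPullback π₁ p₁).paste_horiz hr
    have sqc : IsPullback w hq.isoPullback.hom c m := by
      refine IsPullback.of_bot ?_ ?_ sqm
      · rw [hq.isoPullback_hom_snd, pullback.lift_snd]
        exact IsPullback.of_hasPullback h (pullback.fst p b)
      · apply pullback.hom_ext
        · simp only [m, c, Category.assoc, pullback.lift_fst, hwq]
          rw [← Category.assoc hq.isoPullback.hom, hq.isoPullback_hom_fst]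
        · simp only [m, c, Category.assoc, pullback.lift_snd]
          rw [← Category.assoc hq.isoPullback.hom, hq.isoPullback_hom_snd]
          exact pullback.condition
    have hmQ : (@Surjective ⊓ @Flat ⊓ @QuasiCompact : MorphismProperty Scheme.{u}) m :=
      MorphismProperty.of_isPullback sqm.flip
        (MorphismProperty.of_isPullback (IsPullback.of_hasPullback p b).flip hQ)
    exact MorphismProperty.of_isPullback_of_descendsAlong (P := MorphismProperty.isomorphisms Scheme.{u})
      sqc.flip hmQ (inferInstance : IsIso hq.isoPullback.hom)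
  · let c₀ := pullback.fst (x ≫ p) b
    haveI : IsCover c₀ := IsCover.of_isPullback (p := b) (IsPullback.of_hasPullback (x ≫ p) b).flip
    haveI : EffectiveEpi c₀ := IsCover.effectiveEpi c₀
    rw [← cancel_epi c₀]
    have e₁ : (c₀ ≫ v) ≫ h ≫ p = pullback.snd (x ≫ p) b ≫ b := by
      rw [Category.assoc, e]; exact pullback.condition
    let z := mkPt b (c₀ ≫ v) (pullback.snd (x ≫ p) b) e₁
    let x₁ : pullback (x ≫ p) b ⟶ pullback p b :=
      pullback.lift (c₀ ≫ x) (pullback.snd (x ≫ p) b) (by rw [Category.assoc]; exact pullback.condition)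
    have e₂ : z ≫ h₁ ≫ p₁ = x₁ ≫ p₁ := (mkPt_base _ _ _).trans (pullback.lift_snd _ _ _).symm
    have hact : (actBC A b).act z x₁ e₂ ≫ w = c₀ ≫ A.act v x e := by
      rw [Act.pullbackAct_w, A.comp_act]
      exact A.congr (mkPt_fst _ _ _) (pullback.lift_fst _ _ _) _ _
    rw [← reassoc_of% hact, hwq, ← Category.assoc, hc, Category.assoc, ← hwq, reassoc_of% (mkPt_fst (b := b) (c₀ ≫ v) _ e₁)]

omit [IsUS p] [Etale π₁] in
/-- Quotients base change. -/
theorem effWith_pullback (A : Act h p) {U : Scheme.{u}} (π : U ⟶ S) (hA : EffWith A π) (b : S₁ ⟶ S) :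
    EffWith (actBC A b) (pullback.snd π b) := by
  obtain ⟨q, hpb, hc⟩ := hA
  refine ⟨pullback.lift (pullback.fst h (pullback.fst p b) ≫ q)
    (pullback.snd h (pullback.fst p b) ≫ pullback.snd p b)
    (by rw [Category.assoc, hpb.w, pullback.condition_assoc, pullback.condition, Category.assoc]), ?_,
    fun T v x e => ?_⟩
  · refine IsPullback.of_right (h₁₂ := pullback.fst π b) (h₂₂ := b) ?_ (pullback.lift_snd _ _ _)
      (IsPullback.of_hasPullback π b)
    rw [pullback.lift_fst, ← pullback.condition (f := p) (g := b)]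
    exact (IsPullback.of_hasPullback h _).paste_horiz hpb
  · apply pullback.hom_ext
    · simp only [Category.assoc, pullback.lift_fst]
      rw [← Category.assoc, Act.pullbackAct_w, hc, Category.assoc]
    · simp only [Category.assoc, pullback.lift_snd]
      rw [Act.act_hom_assoc, ← e]

omit [IsUS p] [Etale π₁] in
theorem effWith_congr {A B : Act h p} {U : Scheme.{u}} {π : U ⟶ S}
    (H : ∀ (T : Scheme.{u}) (v : T ⟶ V) (x : T ⟶ X) (e : v ≫ h ≫ p = x ≫ p), A.act v x e = B.act v x e)
    (hA : EffWith A π) : EffWith B π := by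
  obtain ⟨q, hpb, hc⟩ := hA
  exact ⟨q, hpb, fun T v x e => by rw [← H]; exact hc T v x e⟩

omit [IsUS p] [Etale π₁] in
/-- Family dictionary. -/
theorem effWith_fam_iff (D : Desc.SchDDFam (fun _ : PUnit.{1} => p)) (U : Over S) :
    EffWith (ofDD ((Desc.SchDDFam.toSchDD p).obj D)) U.hom ↔
      Nonempty ((Desc.toDDFam (fun _ : PUnit.{1} => p)).obj U ≅ D) := by
  constructor
  · rintro ⟨q, hpb, hc⟩
    obtain ⟨α⟩ := nonempty_iso_of_quot ((Desc.SchDDFam.toSchDD p).obj D) U.hom q hpb hc
    exact ⟨(Desc.SchDDFam.ofSchDD p).mapIso α⟩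
  · rintro ⟨α⟩
    exact exists_quot_of_iso _ U ((Desc.SchDDFam.toSchDD p).mapIso α)

omit [IsUS p] [Etale π₁] in
/-- Pulled back family dictionary. -/
theorem effWith_actBC_iff (D : Desc.SchDDFam (fun _ : PUnit.{1} => p)) (b : S₁ ⟶ S) (U : Over S₁) :
    EffWith (actBC (ofDD ((Desc.SchDDFam.toSchDD p).obj D)) b) U.hom ↔
      Nonempty ((Desc.toDDFam (fun _ : PUnit.{1} => pullback.snd p b)).obj U ≅
        (Desc.pullDDFam (f := fun _ : PUnit.{1} => p) (f' := fun _ : PUnit.{1} => pullback.snd p b)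
          (α := id) (p := b) (p' := fun _ => pullback.fst p b) (fun _ => pullback.condition)).obj D) :=
  ⟨fun hE => (effWith_fam_iff _ U).1 (effWith_congr (fun T v x e => (pullDD_act D pullback.condition T v x e).symm) hE),
    fun hE => effWith_congr (fun T v x e => pullDD_act D pullback.condition T v x e) ((effWith_fam_iff _ U).2 hE)⟩

end Groth.Pi1EtDesc
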