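import Groth.Agent.Pi1EtDesc.Fpqc
import Groth.Agent.S2917

/-!
# fpqc descent of etale effectiveness
-/

universe u

set_option autoImplicit false
set_option backward.isDefEq.respectTransparency false
set_option linter.style.haveILetI false

open CategoryTheory Limits AlgebraicGeometry TopologicalSpace

namespace Groth.Pi1EtDesc

open Groth.Pi1Desc

variable {V X S S₁ : Scheme.{u}} {h : V ⟶ X} {p : X ⟶ S}

theorem isUS_of_isPullback {X' S' : Scheme.{u}} {f : X' ⟶ X} {p' : X' ⟶ S'} {s : S' ⟶ S}
    (hs : IsPullback f p' p s) [IsUS p] : IsUS p' :=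
  haveI : (SGA1.UnivSubmersive.{u}).IsStableUnderBaseChange :=
    inferInstanceAs (MorphismProperty.universally _).IsStableUnderBaseChange
  ⟨MorphismProperty.of_isPullback hs IsUS.us⟩

/-- A quotient of a separated morphism is separated. -/
theorem isSeparated_of_quot {V' X' U' T : Scheme.{u}} {q : V' ⟶ U'} {h' : V' ⟶ X'} {π' : U' ⟶ T} {p' : X' ⟶ T}
    (sq : IsPullback q h' π' p') [IsUS p'] [IsSeparated h'] : IsSeparated π' := by
  have hd : UniversallyClosed (pullback.diagonal h') := inferInstance
  have : UniversallyClosed (pullback.diagonal π') :=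
    MorphismProperty.of_isPullback_of_descendsAlong
      (P := MorphismProperty.diagonal @UniversallyClosed) (Q := SGA1.UnivSubmersive) sq.flip IsUS.us hd
  exact ⟨IsClosedImmersion.of_isPreimmersion _ (pullback.diagonal π').isClosedMap.isClosed_range⟩

/-- Etale effectiveness descends along fpqc base changes. -/
theorem effEt_of_fpqc (A : Act h p) [IsUS p] [QuasiCompact p] [IsSeparated h] [QuasiCompact h]
    (b : S₁ ⟶ S) [Flat b] [Surjective b] [QuasiCompact b] (hE : EffEt (actBC A b)) : EffEt A := by
  obtain ⟨U₁, π₁, q₁, hπ, hpb, hinv⟩ := hE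
  haveI := isUS_of_isPullback (IsPullback.of_hasPullback p b)
  haveI : Surjective (pullback.snd p b) :=
    ⟨(MorphismProperty.universally_le _ _ (IsUS.us : SGA1.UnivSubmersive (pullback.snd p b)) :
      Topology.IsQuotientMap (pullback.snd p b).base).surjective⟩
  haveI : IsSeparated π₁ := isSeparated_of_quot hpb
  haveI : QuasiCompact π₁ := (quasiCompact_and_quasiSeparated_of_quot hpb).1
  obtain ⟨U, π, hU, -, -, q, hq, hqc⟩ := exists_effWith_of_fpqc hpb hinv
  exact ⟨U, π, q, hU, hq, hqc⟩

end Groth.Pi1EtDesc
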