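import Groth.Agent.Pi1EtDesc.Eff

/-!
# Etale effectiveness: change of model, iterated base change, construction of quotients on fibre products
-/

universe u

set_option autoImplicit false
set_option backward.isDefEq.respectTransparency false
set_option linter.style.haveILetI false

open CategoryTheory Limits AlgebraicGeometry TopologicalSpace

namespace Groth.Pi1EtDesc

open Groth.Pi1Desc

variable {V X S : Scheme.{u}} {h : V ⟶ X} {p : X ⟶ S}
variable {V₁ X₁ S₁ : Scheme.{u}} {h₁ : V₁ ⟶ X₁} {p₁ : X₁ ⟶ S₁} {w₁ : V₁ ⟶ V} {f₁ : X₁ ⟶ X} {s : S₁ ⟶ S}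
variable {V₂ X₂ : Scheme.{u}} {h₂ : V₂ ⟶ X₂} {p₂ : X₂ ⟶ S₁} {w₂ : V₂ ⟶ V} {f₂ : X₂ ⟶ X}

/-- Effectiveness of a base change does not depend on the model of the base change. -/
theorem effEt_model (A : Act h p) (pb₁ : IsPullback w₁ h₁ h f₁) (hs₁ : IsPullback f₁ p₁ p s)
    (pb₂ : IsPullback w₂ h₂ h f₂) (hs₂ : IsPullback f₂ p₂ p s)
    (hE : EffEt (A.pullbackAct pb₁ hs₁.w.symm)) : EffEt (A.pullbackAct pb₂ hs₂.w.symm) := by
  let f₀ : X₂ ⟶ X₁ := hs₁.lift f₂ p₂ hs₂.w
  have hf₀ : f₀ ≫ f₁ = f₂ := hs₁.lift_fst _ _ _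
  have hf₀' : f₀ ≫ p₁ = p₂ := hs₁.lift_snd _ _ _
  let w₀ : V₂ ⟶ V₁ := pb₁.lift w₂ (h₂ ≫ f₀) (by rw [pb₂.w, Category.assoc, hf₀])
  have hw₀ : w₀ ≫ w₁ = w₂ := pb₁.lift_fst _ _ _
  have hw₀' : w₀ ≫ h₁ = h₂ ≫ f₀ := pb₁.lift_snd _ _ _
  have pb₀ : IsPullback w₀ h₂ h₁ f₀ := by
    refine IsPullback.of_right ?_ hw₀' pb₁
    rw [hw₀, hf₀]; exact pb₂
  have hs₀ : IsPullback f₀ p₂ p₁ (𝟙 _) := by
    refine IsPullback.of_right ?_ (by rw [hf₀', Category.comp_id]) hs₁
    rw [hf₀, Category.id_comp]; exact hs₂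
  refine effEt_congr (fun T v x e => ?_) (effEt_pullback _ pb₀ hs₀ hE)
  apply pb₂.hom_ext
  · rw [Act.pullbackAct_w]
    have h1 := Act.pullbackAct_w (A.pullbackAct pb₁ hs₁.w.symm) pb₀ hs₀.w.symm v x e
    refine ((congrArg (_ ≫ ·) hw₀.symm).trans (Category.assoc _ _ _).symm).trans ?_
    rw [h1, Act.pullbackAct_w]
    exact A.congr (by rw [Category.assoc, hw₀]) (by rw [Category.assoc, hf₀]) _ _
  · rw [Act.act_hom, Act.act_hom]

variable {V₃ X₃ S₃ : Scheme.{u}} {h₃ : V₃ ⟶ X₃} {p₃ : X₃ ⟶ S₃} {w₃ : V₃ ⟶ V₁} {f₃ : X₃ ⟶ X₁} {t : S₃ ⟶ S₁}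

/-- An iterated base change is a base change. -/
theorem effEt_trans_iff (A : Act h p) (pb₁ : IsPullback w₁ h₁ h f₁) (hs₁ : IsPullback f₁ p₁ p s)
    (pb₃ : IsPullback w₃ h₃ h₁ f₃) (hs₃ : IsPullback f₃ p₃ p₁ t) :
    EffEt ((A.pullbackAct pb₁ hs₁.w.symm).pullbackAct pb₃ hs₃.w.symm) ↔
      EffEt (A.pullbackAct (pb₃.paste_horiz pb₁) (hs₃.paste_horiz hs₁).w.symm) := by
  have key : ∀ (T : Scheme.{u}) (v : T ⟶ V₃) (x : T ⟶ X₃) (e : v ≫ h₃ ≫ p₃ = x ≫ p₃),
      ((A.pullbackAct pb₁ hs₁.w.symm).pullbackAct pb₃ hs₃.w.symm).act v x e =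
        (A.pullbackAct (pb₃.paste_horiz pb₁) (hs₃.paste_horiz hs₁).w.symm).act v x e := fun T v x e => by
    apply (pb₃.paste_horiz pb₁).hom_ext
    · rw [Act.pullbackAct_w, ← Category.assoc, Act.pullbackAct_w, Act.pullbackAct_w]
      exact A.congr (Category.assoc _ _ _) (Category.assoc _ _ _) _ _
    · rw [Act.act_hom, Act.act_hom]
  exact ⟨effEt_congr key, effEt_congr fun T v x e => (key T v x e).symm⟩

/-- Quotient over a base change from an isomorphism of fibre products over the base. -/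
theorem effEt_of_iso (A : Act h p) {U : Scheme.{u}} (π : U ⟶ S) [Etale π]
    (pb : IsPullback w₁ h₁ h f₁) (hs : IsPullback f₁ p₁ p s)
    (E : pullback (h ≫ p) s ⟶ pullback (pullback.fst π p ≫ π) s) [IsIso E]
    (hE₁ : E ≫ pullback.snd _ _ = pullback.snd (h ≫ p) s)
    (hE₂ : E ≫ pullback.fst _ _ ≫ pullback.snd π p = pullback.fst (h ≫ p) s ≫ h)
    (hinv : pullback.lift
          (pullback.fst (pullback.fst (h ≫ p) p ≫ h ≫ p) s ≫
            A.act (pullback.fst (h ≫ p) p) (pullback.snd (h ≫ p) p) pullback.condition)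
          (pullback.snd (pullback.fst (h ≫ p) p ≫ h ≫ p) s)
          (by
            rw [Category.assoc, Act.act_hom_assoc, ← pullback.condition (f := h ≫ p) (g := p)]
            exact pullback.condition) ≫ E ≫ pullback.fst _ _ ≫ pullback.fst π p =
        pullback.lift (pullback.fst (pullback.fst (h ≫ p) p ≫ h ≫ p) s ≫ pullback.fst (h ≫ p) p)
          (pullback.snd (pullback.fst (h ≫ p) p ≫ h ≫ p) s)
          (by rw [Category.assoc]; exact pullback.condition) ≫ E ≫ pullback.fst _ _ ≫ pullback.fst π p) :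
    EffEt (A.pullbackAct pb hs.w.symm) := by
  haveI : Etale (pullback.snd π s) := MorphismProperty.pullback_snd _ _ ‹Etale π›
  have sqV : IsPullback w₁ (h₁ ≫ p₁) (h ≫ p) s := pb.paste_vert hs
  let m : V₁ ≅ pullback (h ≫ p) s := sqV.isoPullback
  let k : V₁ ⟶ pullback π p := m.hom ≫ E ≫ pullback.fst _ _
  have hk₂ : k ≫ pullback.snd π p = h₁ ≫ f₁ := by
    simp only [k, Category.assoc]
    rw [hE₂, ← Category.assoc, sqV.isoPullback_hom_fst, pb.w]
  have hk₀ : k ≫ pullback.fst π p ≫ π = (h₁ ≫ p₁) ≫ s := by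
    rw [pullback.condition, reassoc_of% hk₂, hs.w, Category.assoc]
  have sqk : IsPullback k (h₁ ≫ p₁) (pullback.snd π p ≫ p) s := by
    have h0 : IsPullback k (h₁ ≫ p₁) (pullback.fst π p ≫ π) s :=
      (IsPullback.of_hasPullback (pullback.fst π p ≫ π) s).of_iso (m ≪≫ asIso E).symm (Iso.refl _)
        (Iso.refl _) (Iso.refl _) (by simp [k, m]) (by
          rw [Iso.refl_hom, Category.comp_id, ← Iso.inv_comp_eq, Iso.symm_inv, Iso.trans_hom,
            asIso_hom, Category.assoc, hE₁]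
          exact sqV.isoPullback_hom_snd) (by simp) (by simp)
    rwa [pullback.condition] at h0
  have sqk₂ : IsPullback k h₁ (pullback.snd π p) f₁ := IsPullback.of_bot sqk hk₂ hs
  let q : V₁ ⟶ pullback π s := pullback.lift (k ≫ pullback.fst π p) (h₁ ≫ p₁) (by rw [Category.assoc]; exact hk₀)
  refine ⟨_, pullback.snd π s, q, inferInstance, ?_, fun T v x e => ?_⟩
  · refine IsPullback.of_right (h₁₂ := pullback.fst π s) (h₂₂ := s) ?_ (pullback.lift_snd _ _ _)
      (IsPullback.of_hasPullback π s)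
    rw [pullback.lift_fst, ← hs.w]
    exact sqk₂.paste_horiz (IsPullback.of_hasPullback π p)
  · apply pullback.hom_ext
    · simp only [q, k, Category.assoc, pullback.lift_fst]
      let r : T ⟶ pullback (pullback.fst (h ≫ p) p ≫ h ≫ p) s :=
        pullback.lift (pullback.lift (v ≫ w₁) (x ≫ f₁) (by
            rw [Category.assoc, reassoc_of% pb.w, hs.w, reassoc_of% e, Category.assoc, hs.w]))
          (v ≫ h₁ ≫ p₁) (by
            rw [pullback.lift_fst_assoc, Category.assoc, reassoc_of% pb.w, hs.w]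
            simp only [Category.assoc])
      have h1 := congrArg (r ≫ ·) hinv
      simp only [← Category.assoc] at h1 ⊢
      refine Eq.trans ?_ (h1.trans ?_)
      · congr 3
        apply pullback.hom_ext
        · simp only [m, r, Category.assoc, sqV.isoPullback_hom_fst, pullback.lift_fst, pullback.lift_fst_assoc,
            Act.pullbackAct_w, A.comp_act]
          refine A.congr ?_ ?_ _ _ <;> simp
        · simp only [m, r, Category.assoc, sqV.isoPullback_hom_snd, pullback.lift_snd]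
          rw [Act.act_hom_assoc, ← e]
      · congr 3
        apply pullback.hom_ext
        · simp [m, r, sqV.isoPullback_hom_fst]
        · simp [m, r, sqV.isoPullback_hom_snd]
    · simp only [q, Category.assoc, pullback.lift_snd]
      rw [Act.act_hom_assoc, ← e]

/-- Conversely, the isomorphism of fibre products over the base from a quotient coming from `U`. -/
theorem exists_iso_of_quot (A : Act h p) {U : Scheme.{u}} (π : U ⟶ S)
    (pb : IsPullback w₁ h₁ h f₁) (hs : IsPullback f₁ p₁ p s)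
    {U₁ : Scheme.{u}} {π₁ : U₁ ⟶ S₁} {gU : U₁ ⟶ U} (hU : IsPullback gU π₁ π s)
    (q : V₁ ⟶ U₁) (hq : IsPullback q h₁ π₁ p₁)
    (hc : ∀ (T : Scheme.{u}) (v : T ⟶ V₁) (x : T ⟶ X₁) (e : v ≫ h₁ ≫ p₁ = x ≫ p₁),
      (A.pullbackAct pb hs.w.symm).act v x e ≫ q = v ≫ q) :
    ∃ e : pullback (h ≫ p) s ≅ pullback (pullback.fst π p ≫ π) s,
      e.hom ≫ pullback.snd _ _ = pullback.snd (h ≫ p) s ∧
      e.hom ≫ pullback.fst _ _ ≫ pullback.snd π p = pullback.fst (h ≫ p) s ≫ h ∧
      pullback.lift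
          (pullback.fst (pullback.fst (h ≫ p) p ≫ h ≫ p) s ≫
            A.act (pullback.fst (h ≫ p) p) (pullback.snd (h ≫ p) p) pullback.condition)
          (pullback.snd (pullback.fst (h ≫ p) p ≫ h ≫ p) s)
          (by
            rw [Category.assoc, Act.act_hom_assoc, ← pullback.condition (f := h ≫ p) (g := p)]
            exact pullback.condition) ≫ e.hom ≫ pullback.fst _ _ ≫ pullback.fst π p =
        pullback.lift (pullback.fst (pullback.fst (h ≫ p) p ≫ h ≫ p) s ≫ pullback.fst (h ≫ p) p)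
          (pullback.snd (pullback.fst (h ≫ p) p ≫ h ≫ p) s)
          (by rw [Category.assoc]; exact pullback.condition) ≫ e.hom ≫ pullback.fst _ _ ≫ pullback.fst π p := by
  have sqV : IsPullback w₁ (h₁ ≫ p₁) (h ≫ p) s := pb.paste_vert hs
  let k : V₁ ⟶ pullback π p := pullback.lift (q ≫ gU) (h₁ ≫ f₁) (by
    rw [Category.assoc, hU.w, reassoc_of% hq.w, Category.assoc, hs.w])
  have sqk₂ : IsPullback k h₁ (pullback.snd π p) f₁ := by
    refine IsPullback.of_right (h₁₂ := pullback.fst π p) (h₂₂ := p) ?_ (pullback.lift_snd _ _ _)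
      (IsPullback.of_hasPullback π p)
    rw [pullback.lift_fst, hs.w]
    exact hq.paste_horiz hU
  have sqk : IsPullback k (h₁ ≫ p₁) (pullback.fst π p ≫ π) s := by
    rw [pullback.condition]; exact sqk₂.paste_vert hs
  refine ⟨sqV.isoPullback.symm ≪≫ sqk.isoPullback, ?_, ?_, ?_⟩
  · simp only [Iso.trans_hom, Iso.symm_hom, Category.assoc, sqk.isoPullback_hom_snd,
      sqV.isoPullback_inv_snd]
  · simp only [Iso.trans_hom, Iso.symm_hom, Category.assoc, sqk.isoPullback_hom_fst_assoc, k,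
      pullback.lift_snd]
    rw [← pb.w, sqV.isoPullback_inv_fst_assoc]
  · simp only [Iso.trans_hom, Iso.symm_hom, Category.assoc, sqk.isoPullback_hom_fst_assoc, k,
      pullback.lift_fst]
    let r₀ := pullback.fst (h ≫ p) p ≫ h ≫ p
    let v : pullback r₀ s ⟶ V₁ :=
      pullback.lift (pullback.fst r₀ s ≫ pullback.fst (h ≫ p) p) (pullback.snd r₀ s)
        (by rw [Category.assoc]; exact pullback.condition) ≫ sqV.isoPullback.inv
    let x : pullback r₀ s ⟶ X₁ :=
      hs.lift (pullback.fst r₀ s ≫ pullback.snd (h ≫ p) p) (pullback.snd r₀ s) (by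
        rw [Category.assoc, ← pullback.condition (f := h ≫ p) (g := p)]; exact pullback.condition)
    have hv : v ≫ w₁ = pullback.fst r₀ s ≫ pullback.fst (h ≫ p) p := by
      simp [v, sqV.isoPullback_inv_fst]
    have hv' : v ≫ h₁ ≫ p₁ = pullback.snd r₀ s := by
      simp [v, sqV.isoPullback_inv_snd]
    have hxf : x ≫ f₁ = pullback.fst r₀ s ≫ pullback.snd (h ≫ p) p := hs.lift_fst _ _ _
    have ec : v ≫ h₁ ≫ p₁ = x ≫ p₁ := hv'.trans (hs.lift_snd _ _ _).symm
    have hact : (A.pullbackAct pb hs.w.symm).act v x ec = pullback.lift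
        (pullback.fst r₀ s ≫ A.act (pullback.fst (h ≫ p) p) (pullback.snd (h ≫ p) p) pullback.condition)
        (pullback.snd r₀ s) (by
          rw [Category.assoc, Act.act_hom_assoc, ← pullback.condition (f := h ≫ p) (g := p)]
          exact pullback.condition) ≫ sqV.isoPullback.inv := by
      apply sqV.hom_ext
      · rw [Act.pullbackAct_w]
        conv_rhs => rw [Category.assoc, sqV.isoPullback_inv_fst, pullback.lift_fst, A.comp_act]
        exact A.congr hv hxf _ _
      · rw [Act.act_hom_assoc, ← ec, hv', Category.assoc, sqV.isoPullback_inv_snd, pullback.lift_snd]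
    have key := hc _ v x ec
    rw [hact, Category.assoc] at key
    have key' := congrArg (· ≫ gU) key
    simpa [v] using key'

end Groth.Pi1EtDesc
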